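import Mathlib

set_option linter.unusedSectionVars false
set_option linter.unusedVariables false
set_option linter.unusedSimpArgs false
set_option autoImplicit false
set_option linter.style.haveILetI false
set_option maxHeartbeats 400000

universe u

noncomputable section

namespace Groth.Agent.Helper6.FinLenEq

open IsLocalRing

variable {A : Type u} [CommRing A] [IsLocalRing A] [IsNoetherianRing A]

/-- `A ⧸ 𝔪^(n+1)` has finite length. -/
lemma finLen_quot_pow (n : ℕ) : IsFiniteLength A (A ⧸ (maximalIdeal A) ^ (n + 1)) := by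
  rw [isFiniteLength_iff_isNoetherian_isArtinian]
  refine ⟨inferInstance, ?_⟩
  have hp : maximalIdeal A ∈ ((maximalIdeal A) ^ (n + 1)).minimalPrimes := by
    refine ⟨⟨inferInstance, Ideal.pow_le_self (by omega)⟩, ?_⟩
    rintro q ⟨hq, hq'⟩ _
    exact hq.le_of_pow_le hq'
  haveI : IsArtinianRing (A ⧸ (maximalIdeal A) ^ (n + 1)) :=
    IsLocalRing.quotient_artinian_of_mem_minimalPrimes_of_isLocalRing _ hp
  exact isArtinian_of_surjective_algebraMap (S := A) (R := A ⧸ (maximalIdeal A) ^ (n + 1))
    Ideal.Quotient.mk_surjective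

/-- `A ⧸ 𝔪` has finite length. -/
lemma finLen_quot_max : IsFiniteLength A (A ⧸ maximalIdeal A) := by
  have h := finLen_quot_pow (A := A) 0
  have e : (maximalIdeal A) ^ (0 + 1) = maximalIdeal A := by simp
  rw [e] at h
  exact h

/-- a finite length module is killed by a power of the maximal ideal -/
lemma exists_pow_kill (M : Type u) [AddCommGroup M] [Module A M] (hM : IsFiniteLength A M) :
    ∃ n : ℕ, ∀ a ∈ (maximalIdeal A) ^ (n + 1), ∀ x : M, a • x = 0 := by
  rw [isFiniteLength_iff_isNoetherian_isArtinian] at hM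
  obtain ⟨hN, hAr⟩ := hM
  let f : ℕ →o (Submodule A M)ᵒᵈ :=
    { toFun := fun n => OrderDual.toDual ((maximalIdeal A) ^ n • (⊤ : Submodule A M))
      monotone' := fun i j hij => Submodule.pow_smul_top_le _ _ hij }
  obtain ⟨n, hn⟩ := IsArtinian.monotone_stabilizes f
  have h1 : (maximalIdeal A) ^ n • (⊤ : Submodule A M) =
      (maximalIdeal A) ^ (n + 1) • (⊤ : Submodule A M) := hn (n + 1) (by omega)
  have h2 : (maximalIdeal A) ^ n • (⊤ : Submodule A M) = ⊥ := by
    apply Submodule.eq_bot_of_le_smul_of_le_jacobson_bot (maximalIdeal A) _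
      (IsNoetherian.noetherian _) _ (IsLocalRing.maximalIdeal_le_jacobson ⊥)
    conv_lhs => rw [h1]
    rw [pow_succ', mul_smul]
  refine ⟨n, fun a ha x => ?_⟩
  have h3 : a • x ∈ (maximalIdeal A) ^ n • (⊤ : Submodule A M) :=
    Submodule.smul_mem_smul (Ideal.pow_le_pow_right (by omega) ha) trivial
  rw [h2] at h3
  exact (Submodule.mem_bot A).1 h3

/-- a nonzero finite module over a local ring maps onto the residue field -/
lemma exists_surj_to_residue (M : Type u) [AddCommGroup M] [Module A M] [Module.Finite A M]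
    [Nontrivial M] : ∃ f : M →ₗ[A] (A ⧸ maximalIdeal A), Function.Surjective f := by
  obtain ⟨N, hN, -⟩ := (eq_top_or_exists_le_coatom (⊥ : Submodule A M)).resolve_left bot_ne_top
  have hs : IsSimpleModule A (M ⧸ N) := isSimpleModule_iff_isCoatom.2 hN
  obtain ⟨I, hI, ⟨e⟩⟩ := isSimpleModule_iff_quot_maximal.mp hs
  obtain rfl := IsLocalRing.eq_maximalIdeal hI
  exact ⟨e.toLinearMap ∘ₗ N.mkQ, e.surjective.comp N.mkQ_surjective⟩

/-- cyclicity criterion: if all maps `M → A/𝔪` are multiples of a single one, `M` is cyclic -/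
lemma cyclic_of_hom_residue (M : Type u) [AddCommGroup M] [Module A M] [Module.Finite A M]
    (f₀ : M →ₗ[A] (A ⧸ maximalIdeal A))
    (H : ∀ g : M →ₗ[A] (A ⧸ maximalIdeal A), ∃ a : A, g = a • f₀) :
    ∃ e : M, ∀ x : M, ∃ a : A, x = a • e := by
  -- kernel of f₀ is `𝔪 M`
  have hker : LinearMap.ker f₀ ≤ (maximalIdeal A) • (⊤ : Submodule A M) := by
    intro x hx
    by_contra hx'
    have hne : (Submodule.Quotient.mk x : M ⧸ (maximalIdeal A) • (⊤ : Submodule A M)) ≠ 0 := by
      rwa [Ne, Submodule.Quotient.mk_eq_zero]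
    letI : Field (A ⧸ maximalIdeal A) := Ideal.Quotient.field (maximalIdeal A)
    obtain ⟨φ, hφ⟩ := not_forall.1 (fun h =>
      hne ((Module.forall_dual_apply_eq_zero_iff (A ⧸ maximalIdeal A) _).1 h))
    let g : M →ₗ[A] (A ⧸ maximalIdeal A) :=
      { toFun := fun y => φ (Submodule.Quotient.mk y)
        map_add' := fun y z => by rw [Submodule.Quotient.mk_add, map_add]
        map_smul' := fun a y => by
          have h1 : (Submodule.Quotient.mk (a • y) : M ⧸ (maximalIdeal A) • (⊤ : Submodule A M)) =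
              Ideal.Quotient.mk (maximalIdeal A) a • Submodule.Quotient.mk y := rfl
          rw [h1, map_smul]
          rfl }
    obtain ⟨a, ha⟩ := H g
    have h2 : g x = a • f₀ x := by rw [ha]; rfl
    rw [LinearMap.mem_ker.1 hx, smul_zero] at h2
    exact hφ h2
  by_cases hf : f₀ = 0
  · -- then M = 𝔪 M, so M = 0
    have h1 : (⊤ : Submodule A M) ≤ (maximalIdeal A) • (⊤ : Submodule A M) := by
      intro x _
      exact hker (by rw [hf]; simp)
    have h2 : (⊤ : Submodule A M) = ⊥ :=
      Submodule.eq_bot_of_le_smul_of_le_jacobson_bot (maximalIdeal A) _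
        (Module.finite_def.1 inferInstance) h1 (IsLocalRing.maximalIdeal_le_jacobson ⊥)
    refine ⟨0, fun x => ⟨0, ?_⟩⟩
    have : x ∈ (⊥ : Submodule A M) := h2 ▸ Submodule.mem_top
    rw [(Submodule.mem_bot A).1 this, smul_zero]
  · obtain ⟨e, he⟩ : ∃ e, f₀ e ≠ 0 := by
      by_contra h
      exact hf (LinearMap.ext fun y => by
        by_contra hy
        exact h ⟨y, hy⟩)
    -- f₀ e is a unit class
    obtain ⟨b, hb⟩ := Ideal.Quotient.mk_surjective (f₀ e)
    have hbu : IsUnit b := by
      by_contra hnu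
      have : b ∈ maximalIdeal A := (IsLocalRing.mem_maximalIdeal b).2 hnu
      rw [← Ideal.Quotient.eq_zero_iff_mem, hb] at this
      exact he this
    obtain ⟨c, hc⟩ := hbu.exists_left_inv
    have h1 : (⊤ : Submodule A M) ≤ Submodule.span A {e} ⊔
        (maximalIdeal A) • (⊤ : Submodule A M) := by
      intro x _
      obtain ⟨d, hd⟩ := Ideal.Quotient.mk_surjective (f₀ x)
      have hx : x - (d * c) • e ∈ LinearMap.ker f₀ := by
        rw [LinearMap.mem_ker, map_sub, map_smul, ← hb, ← hd]
        change Ideal.Quotient.mk _ d - Ideal.Quotient.mk _ ((d * c) * b) = 0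
        rw [mul_assoc, hc, mul_one, sub_self]
      have : x = (d * c) • e + (x - (d * c) • e) := by abel
      rw [this]
      exact Submodule.add_mem_sup (Submodule.smul_mem _ _ (Submodule.mem_span_singleton_self e))
        (hker hx)
    have h2 : (⊤ : Submodule A M) ≤ Submodule.span A {e} :=
      Submodule.le_of_le_smul_of_le_jacobson_bot (Module.finite_def.1 inferInstance)
        (IsLocalRing.maximalIdeal_le_jacobson ⊥) h1
    refine ⟨e, fun x => ?_⟩
    obtain ⟨a, ha⟩ := Submodule.mem_span_singleton.1 (h2 (Submodule.mem_top (x := x)))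
    exact ⟨a, ha.symm⟩

/-- a nonzero finite module killed by `𝔪` all of whose endomorphisms are scalars is cyclic -/
lemma cyclic_of_end_scalar (V : Type u) [AddCommGroup V] [Module A V] [Module.Finite A V]
    [Nontrivial V] (hk : ∀ a ∈ maximalIdeal A, ∀ x : V, a • x = 0)
    (hend : ∀ T : V →ₗ[A] V, ∃ a : A, T = a • LinearMap.id) :
    ∃ e : V, ∀ x : V, ∃ a : A, x = a • e := by
  obtain ⟨f₀, hf₀⟩ := exists_surj_to_residue (A := A) V
  obtain ⟨v, hv⟩ := exists_ne (0 : V)
  let j : (A ⧸ maximalIdeal A) →ₗ[A] V :=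
    Submodule.liftQ _ (LinearMap.toSpanSingleton A V v) (by
      intro a ha
      rw [LinearMap.mem_ker, LinearMap.toSpanSingleton_apply]
      exact hk a ha v)
  have hj : ∀ a : A, j (Ideal.Quotient.mk _ a) = a • v := fun a => rfl
  have hjinj : Function.Injective j := by
    rw [← LinearMap.ker_eq_bot, LinearMap.ker_eq_bot']
    intro y hy
    obtain ⟨a, rfl⟩ := Ideal.Quotient.mk_surjective y
    rw [hj] at hy
    rw [Ideal.Quotient.eq_zero_iff_mem]
    by_contra ha
    have hu : IsUnit a := by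
      by_contra hnu
      exact ha ((IsLocalRing.mem_maximalIdeal a).2 hnu)
    obtain ⟨c, hc⟩ := hu.exists_left_inv
    apply hv
    calc v = (c * a) • v := by rw [hc, one_smul]
      _ = c • (a • v) := by rw [mul_smul]
      _ = 0 := by rw [hy, smul_zero]
  obtain ⟨a₀, ha₀⟩ := hend (j ∘ₗ f₀)
  have ha₀u : IsUnit a₀ := by
    by_contra hnu
    have hm : a₀ ∈ maximalIdeal A := (IsLocalRing.mem_maximalIdeal a₀).2 hnu
    obtain ⟨w, hw⟩ := hf₀ (Ideal.Quotient.mk _ 1)
    have h1 : j (f₀ w) = a₀ • w := by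
      have := LinearMap.congr_fun ha₀ w
      simpa using this
    rw [hk a₀ hm w, hw, hj, one_smul] at h1
    exact hv h1
  obtain ⟨c, hc⟩ := ha₀u.exists_left_inv
  apply cyclic_of_hom_residue V f₀
  intro g
  obtain ⟨a, ha⟩ := hend (j ∘ₗ g)
  refine ⟨a * c, ?_⟩
  apply LinearMap.ext
  intro x
  apply hjinj
  have h1 : j (g x) = a • x := by
    have := LinearMap.congr_fun ha x
    simpa using this
  have h2 : j (f₀ x) = a₀ • x := by
    have := LinearMap.congr_fun ha₀ x
    simpa using this
  rw [h1, LinearMap.smul_apply, map_smul, h2, ← mul_smul, mul_assoc, hc, mul_one]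

end Groth.Agent.Helper6.FinLenEq
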