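import Mathlib
import Groth.Agent.Lib.Helper6.FinLenEq.Alg

set_option linter.unusedSectionVars false
set_option linter.unusedVariables false
set_option linter.unusedSimpArgs false
set_option autoImplicit false
set_option linter.style.haveILetI false
set_option maxHeartbeats 400000

universe u

noncomputable section

namespace Groth.Agent.Helper6.FinLenEq

open CategoryTheory IsLocalRing

/-- finite length modules -/
abbrev FL (A : Type u) [CommRing A] : Type (u + 1) :=
  ObjectProperty.FullSubcategory (fun M : ModuleCat.{u} A => IsFiniteLength A M)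

section general

variable {A : Type u} [CommRing A]

/-- object from a module -/
abbrev mkFL (M : Type u) [AddCommGroup M] [Module A M] (h : IsFiniteLength A M) : FL A :=
  ⟨ModuleCat.of A M, h⟩

/-- morphism from a linear map -/
def mkHom {X Y : FL A} (f : X.obj →ₗ[A] Y.obj) : X ⟶ Y :=
  ObjectProperty.homMk (ModuleCat.ofHom f)

/-- underlying linear map -/
def lin {X Y : FL A} (f : X ⟶ Y) : X.obj →ₗ[A] Y.obj := f.hom.hom

@[simp] lemma lin_mkHom {X Y : FL A} (f : X.obj →ₗ[A] Y.obj) : lin (mkHom f) = f := rfl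

@[simp] lemma mkHom_lin {X Y : FL A} (f : X ⟶ Y) : mkHom (lin f) = f := rfl

lemma lin_injective {X Y : FL A} : Function.Injective (lin : (X ⟶ Y) → _) := by
  intro f g h
  apply ObjectProperty.hom_ext
  exact ModuleCat.hom_ext h

@[simp] lemma lin_comp {X Y Z : FL A} (f : X ⟶ Y) (g : Y ⟶ Z) :
    lin (f ≫ g) = (lin g) ∘ₗ (lin f) := rfl

@[simp] lemma lin_id (X : FL A) : lin (𝟙 X) = LinearMap.id := rfl

@[simp] lemma lin_zero {X Y : FL A} : lin (0 : X ⟶ Y) = 0 := rfl

@[simp] lemma lin_add {X Y : FL A} (f g : X ⟶ Y) : lin (f + g) = lin f + lin g := rfl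

@[simp] lemma lin_smul {X Y : FL A} (a : A) (f : X ⟶ Y) : lin (a • f) = a • lin f := rfl

end general

section quot

variable {A : Type u} [CommRing A] [IsLocalRing A] [IsNoetherianRing A]

/-- `A ⧸ 𝔪^(n+1)` as an object -/
abbrev Qp (n : ℕ) : FL A := mkFL (A ⧸ (maximalIdeal A) ^ (n + 1)) (finLen_quot_pow n)

/-- `A ⧸ 𝔪` as an object -/
abbrev Qk : FL A := mkFL (A ⧸ maximalIdeal A) finLen_quot_max

/-- the class of `a` in `A ⧸ 𝔪^(n+1)` -/
abbrev cl (n : ℕ) (a : A) : (Qp (A := A) n).obj := Ideal.Quotient.mk ((maximalIdeal A) ^ (n + 1)) a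

/-- killed by `𝔪^(n+1)` -/
def Killed (n : ℕ) (X : FL A) : Prop := ∀ a ∈ (maximalIdeal A) ^ (n + 1), ∀ x : X.obj, a • x = 0

lemma Killed.mono {n m : ℕ} (h : n ≤ m) {X : FL A} (hX : Killed n X) : Killed m X :=
  fun a ha x => hX a (Ideal.pow_le_pow_right (by omega) ha) x

lemma exists_killed (X : FL A) : ∃ n, Killed n X := exists_pow_kill X.obj X.property

lemma killed_Qp (n : ℕ) : Killed n (Qp (A := A) n) := by
  intro a ha x
  obtain ⟨b, rfl⟩ := Ideal.Quotient.mk_surjective x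
  change Ideal.Quotient.mk _ (a * b) = 0
  rw [Ideal.Quotient.eq_zero_iff_mem]
  exact Ideal.mul_mem_right _ _ ha

/-- the morphism `A ⧸ 𝔪^(n+1) ⟶ X`, `1 ↦ x` -/
def phi (n : ℕ) {X : FL A} (hX : Killed n X) (x : X.obj) : Qp n ⟶ X :=
  mkHom (Submodule.liftQ _ (LinearMap.toSpanSingleton A X.obj x) (by
    intro a ha
    rw [LinearMap.mem_ker, LinearMap.toSpanSingleton_apply]
    exact hX a ha x))

lemma phi_apply (n : ℕ) {X : FL A} (hX : Killed n X) (x : X.obj) (a : A) :
    lin (phi n hX x) (cl n a) = a • x := rfl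

lemma hom_ext_Qp {n : ℕ} {X : FL A} {f g : Qp n ⟶ X} (h : lin f (cl n 1) = lin g (cl n 1)) :
    f = g := by
  apply lin_injective
  apply LinearMap.ext
  intro y
  obtain ⟨b, rfl⟩ := Ideal.Quotient.mk_surjective y
  have e : (Ideal.Quotient.mk ((maximalIdeal A) ^ (n + 1)) b : (Qp (A := A) n).obj) =
      b • cl n 1 := by
    change _ = Ideal.Quotient.mk _ (b * 1)
    rw [mul_one]
  rw [e, map_smul, map_smul, h]

lemma eq_phi {n : ℕ} {X : FL A} (hX : Killed n X) (f : Qp n ⟶ X) :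
    f = phi n hX (lin f (cl n 1)) := by
  apply hom_ext_Qp
  rw [phi_apply, one_smul]

lemma phi_add (n : ℕ) {X : FL A} (hX : Killed n X) (x y : X.obj) :
    phi n hX (x + y) = phi n hX x + phi n hX y := by
  apply hom_ext_Qp
  rw [lin_add, LinearMap.add_apply, phi_apply, phi_apply, phi_apply, one_smul, one_smul, one_smul]

lemma phi_smul (n : ℕ) {X : FL A} (hX : Killed n X) (a : A) (x : X.obj) :
    phi n hX (a • x) = a • phi n hX x := by
  apply hom_ext_Qp
  rw [lin_smul, LinearMap.smul_apply, phi_apply, phi_apply, one_smul, one_smul]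

lemma phi_comp (n : ℕ) {X Y : FL A} (hX : Killed n X) (hY : Killed n Y) (x : X.obj)
    (g : X ⟶ Y) : phi n hX x ≫ g = phi n hY (lin g x) := by
  apply hom_ext_Qp
  rw [lin_comp, LinearMap.comp_apply, phi_apply, phi_apply, one_smul, one_smul]

/-- the projection `A ⧸ 𝔪^(n+2) ⟶ A ⧸ 𝔪^(n+1)` -/
def pr (n : ℕ) : Qp (A := A) (n + 1) ⟶ Qp n :=
  phi (n + 1) ((killed_Qp n).mono (Nat.le_succ n)) (cl n 1)

lemma pr_apply (n : ℕ) (a : A) : lin (pr (A := A) n) (cl (n + 1) a) = cl n a := by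
  unfold pr
  rw [phi_apply]
  change Ideal.Quotient.mk _ (a * 1) = _
  rw [mul_one]

lemma pr_comp_phi (n : ℕ) {X : FL A} (hX : Killed n X) (x : X.obj) :
    pr n ≫ phi n hX x = phi (n + 1) (hX.mono (Nat.le_succ n)) x := by
  apply hom_ext_Qp
  rw [lin_comp, LinearMap.comp_apply, pr_apply, phi_apply, phi_apply]

lemma pr_surjective (n : ℕ) : Function.Surjective (lin (pr (A := A) n)) := by
  intro y
  obtain ⟨b, rfl⟩ := Ideal.Quotient.mk_surjective y
  exact ⟨cl (n + 1) b, pr_apply n b⟩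

/-- the projection `A ⧸ 𝔪^(n+1) ⟶ A ⧸ 𝔪` -/
def prk (n : ℕ) : Qp (A := A) n ⟶ Qk :=
  phi n (X := Qk) (by
    intro a ha x
    obtain ⟨b, rfl⟩ := Ideal.Quotient.mk_surjective x
    change Ideal.Quotient.mk _ (a * b) = 0
    rw [Ideal.Quotient.eq_zero_iff_mem]
    exact Ideal.mul_mem_right _ _ (Ideal.pow_le_self (by omega) ha))
    (Ideal.Quotient.mk (maximalIdeal A) 1 : (Qk (A := A)).obj)

end quot

end Groth.Agent.Helper6.FinLenEq
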