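import Mathlib
import Groth.Agent.Lib.Helper6.FinLenEq.Cat

set_option linter.unusedSectionVars false
set_option linter.unusedVariables false
set_option linter.unusedSimpArgs false
set_option autoImplicit false
set_option linter.style.haveILetI false
set_option maxHeartbeats 400000

universe u

noncomputable section

namespace Groth.Agent.Helper6.FinLenEq

open CategoryTheory IsLocalRing

variable {A : Type u} [CommRing A] [IsLocalRing A] [IsNoetherianRing A]

lemma surj_of_epi {X Y : FL A} (f : X ⟶ Y) [Epi f] : Function.Surjective (lin f) := by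
  let R := LinearMap.range (lin f)
  have hQ : IsFiniteLength A (Y.obj ⧸ R) := Y.property.of_surjective (f := R.mkQ) R.mkQ_surjective
  let q : Y ⟶ mkFL (Y.obj ⧸ R) hQ := mkHom R.mkQ
  have h1 : f ≫ q = f ≫ 0 := by
    apply lin_injective
    apply LinearMap.ext
    intro x
    change R.mkQ (lin f x) = 0
    rw [Submodule.mkQ_apply, Submodule.Quotient.mk_eq_zero]
    exact LinearMap.mem_range_self _ x
  have h2 : q = 0 := (cancel_epi f).1 h1
  rw [← LinearMap.range_eq_top, eq_top_iff]
  intro y _
  have h3 : R.mkQ y = 0 := by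
    have := congrArg (fun g => lin g y) h2
    exact this
  rwa [Submodule.mkQ_apply, Submodule.Quotient.mk_eq_zero] at h3

lemma epi_of_surj {X Y : FL A} (f : X ⟶ Y) (h : Function.Surjective (lin f)) : Epi f := by
  haveI : Epi ((ObjectProperty.ι _).map f) := (ModuleCat.epi_iff_surjective _).2 h
  exact Functor.epi_of_epi_map (ObjectProperty.ι _) this

variable (F : FL A ≌ FL A) [F.functor.Additive] [F.functor.Linear A]

lemma F_surj {X Y : FL A} (f : X ⟶ Y) (h : Function.Surjective (lin f)) :
    Function.Surjective (lin (F.functor.map f)) := by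
  haveI := epi_of_surj f h
  exact surj_of_epi _

lemma kill_of_kill (X : FL A) (a : A) (h : ∀ x : X.obj, a • x = 0)
    (y : (F.functor.obj X).obj) : a • y = 0 := by
  have h1 : a • 𝟙 X = 0 := by
    apply lin_injective
    apply LinearMap.ext
    intro x
    exact h x
  have h2 : a • 𝟙 (F.functor.obj X) = 0 := by
    rw [← F.functor.map_id, ← Functor.map_smul, h1, Functor.map_zero]
  have := congrArg (fun f => lin f y) h2
  exact this

lemma killed_F {n : ℕ} {X : FL A} (hX : Killed n X) : Killed n (F.functor.obj X) :=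
  fun a ha y => kill_of_kill F X a (hX a ha) y

lemma nontrivial_F (X : FL A) [Nontrivial X.obj] : Nontrivial (F.functor.obj X).obj := by
  by_contra h
  rw [not_nontrivial_iff_subsingleton] at h
  have h1 : 𝟙 (F.functor.obj X) = 0 := by
    apply lin_injective
    apply LinearMap.ext
    intro y
    exact Subsingleton.elim _ _
  have h2 : 𝟙 X = 0 := by
    apply F.functor.map_injective
    rw [F.functor.map_id, h1, Functor.map_zero]
  obtain ⟨x, y, hxy⟩ := exists_pair_ne X.obj
  apply hxy
  have := fun z => congrArg (fun f => lin f z) h2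
  have hx := this x
  have hy := this y
  simp only [lin_id, LinearMap.id_apply, lin_zero, LinearMap.zero_apply] at hx hy
  rw [hx, hy]

instance finite_obj (X : FL A) : Module.Finite A X.obj := by
  have := (isFiniteLength_iff_isNoetherian_isArtinian.1 X.property).1
  infer_instance

instance nontrivial_Qk : Nontrivial (Qk (A := A)).obj :=
  Ideal.Quotient.nontrivial_iff.2 (IsLocalRing.maximalIdeal.isMaximal A).ne_top

instance nontrivial_Qp (n : ℕ) : Nontrivial (Qp (A := A) n).obj :=
  Ideal.Quotient.nontrivial_iff.2 (fun h => (IsLocalRing.maximalIdeal.isMaximal A).ne_top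
    (top_le_iff.1 (h ▸ Ideal.pow_le_self (by omega))))

lemma killed_Qk : ∀ a ∈ maximalIdeal A, ∀ x : (Qk (A := A)).obj, a • x = 0 := by
  intro a ha x
  obtain ⟨b, rfl⟩ := Ideal.Quotient.mk_surjective x
  change Ideal.Quotient.mk _ (a * b) = 0
  rw [Ideal.Quotient.eq_zero_iff_mem]
  exact Ideal.mul_mem_right _ _ ha

/-- every morphism to `A ⧸ 𝔪` from a quotient of `A` is determined by the image of `1` -/
lemma hom_ext_Qk {X : FL A} {f g : Qk ⟶ X}
    (h : lin f (Ideal.Quotient.mk (maximalIdeal A) 1 : (Qk (A := A)).obj) =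
      lin g (Ideal.Quotient.mk (maximalIdeal A) 1 : (Qk (A := A)).obj)) : f = g := by
  apply lin_injective
  apply LinearMap.ext
  intro y
  obtain ⟨b, rfl⟩ := Ideal.Quotient.mk_surjective y
  have e : (Ideal.Quotient.mk (maximalIdeal A) b : (Qk (A := A)).obj) =
      b • (Ideal.Quotient.mk (maximalIdeal A) 1 : (Qk (A := A)).obj) := by
    change _ = Ideal.Quotient.mk _ (b * 1)
    rw [mul_one]
  rw [e, map_smul, map_smul, h]

lemma end_Qk_scalar (t : Qk (A := A) ⟶ Qk) : ∃ a : A, t = a • 𝟙 _ := by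
  obtain ⟨a, ha⟩ := Ideal.Quotient.mk_surjective
    (lin t (Ideal.Quotient.mk (maximalIdeal A) 1 : (Qk (A := A)).obj))
  refine ⟨a, hom_ext_Qk ?_⟩
  rw [← ha, lin_smul, LinearMap.smul_apply, lin_id, LinearMap.id_apply]
  change _ = Ideal.Quotient.mk _ (a * 1)
  rw [mul_one]

lemma Fk_cyclic : ∃ e : (F.functor.obj Qk).obj, ∀ x : (F.functor.obj Qk).obj, ∃ a : A, x = a • e := by
  haveI := nontrivial_F F (Qk (A := A))
  apply cyclic_of_end_scalar (A := A) (F.functor.obj Qk).obj
  · intro a ha y
    exact kill_of_kill F Qk a (killed_Qk a ha) y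
  · intro T
    obtain ⟨t, ht⟩ := F.functor.map_surjective (mkHom T : F.functor.obj Qk ⟶ F.functor.obj Qk)
    obtain ⟨a, rfl⟩ := end_Qk_scalar t
    refine ⟨a, ?_⟩
    have := congrArg lin ht
    rw [Functor.map_smul, F.functor.map_id, lin_smul, lin_id, lin_mkHom] at this
    exact this.symm

/-- a chosen generator of `F(A/𝔪)` -/
def kgen : (F.functor.obj (Qk (A := A))).obj := (Fk_cyclic F).choose

lemma kgen_spec (x : (F.functor.obj (Qk (A := A))).obj) : ∃ a : A, x = a • kgen F :=
  (Fk_cyclic F).choose_spec x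

lemma kgen_ne_zero : kgen F ≠ 0 := by
  haveI := nontrivial_F F (Qk (A := A))
  intro h
  obtain ⟨x, hx⟩ := exists_ne (0 : (F.functor.obj (Qk (A := A))).obj)
  obtain ⟨a, ha⟩ := kgen_spec F x
  rw [h, smul_zero] at ha
  exact hx ha

/-- the linear map `A/𝔪 → F(A/𝔪)`, `1 ↦ kgen` -/
def thetaK : (A ⧸ maximalIdeal A) →ₗ[A] (F.functor.obj (Qk (A := A))).obj :=
  Submodule.liftQ _ (LinearMap.toSpanSingleton A _ (kgen F)) (by
    intro a ha
    rw [LinearMap.mem_ker, LinearMap.toSpanSingleton_apply]
    exact kill_of_kill F Qk a (killed_Qk a ha) _)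

lemma thetaK_apply (a : A) : thetaK F (Ideal.Quotient.mk _ a) = a • kgen F := rfl

lemma thetaK_bijective : Function.Bijective (thetaK F) := by
  constructor
  · rw [← LinearMap.ker_eq_bot, LinearMap.ker_eq_bot']
    intro y hy
    obtain ⟨a, rfl⟩ := Ideal.Quotient.mk_surjective y
    rw [thetaK_apply] at hy
    rw [Ideal.Quotient.eq_zero_iff_mem]
    by_contra ha
    have hu : IsUnit a := by
      by_contra hnu
      exact ha ((IsLocalRing.mem_maximalIdeal a).2 hnu)
    obtain ⟨c, hc⟩ := hu.exists_left_inv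
    apply kgen_ne_zero F
    calc kgen F = (c * a) • kgen F := by rw [hc, one_smul]
      _ = c • (a • kgen F) := by rw [mul_smul]
      _ = 0 := by rw [hy, smul_zero]
  · intro x
    obtain ⟨a, ha⟩ := kgen_spec F x
    exact ⟨Ideal.Quotient.mk _ a, ha.symm⟩

lemma prk_apply (n : ℕ) (a : A) :
    lin (prk (A := A) n) (cl n a) = (Ideal.Quotient.mk (maximalIdeal A) a : (Qk (A := A)).obj) := by
  change a • (Ideal.Quotient.mk (maximalIdeal A) 1 : (Qk (A := A)).obj) = _
  change Ideal.Quotient.mk _ (a * 1) = _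
  rw [mul_one]

/-- `F(A/𝔪^(n+1))` is cyclic -/
lemma FQp_cyclic (n : ℕ) :
    ∃ e : (F.functor.obj (Qp (A := A) n)).obj, ∀ x : (F.functor.obj (Qp n)).obj, ∃ a : A, x = a • e := by
  let θ : (A ⧸ maximalIdeal A) ≃ₗ[A] (F.functor.obj (Qk (A := A))).obj :=
    LinearEquiv.ofBijective (thetaK F) (thetaK_bijective F)
  let f₀ : (F.functor.obj (Qp (A := A) n)).obj →ₗ[A] (A ⧸ maximalIdeal A) :=
    θ.symm.toLinearMap ∘ₗ lin (F.functor.map (prk n))
  apply cyclic_of_hom_residue (A := A) _ f₀
  intro g
  obtain ⟨h, hh⟩ := F.functor.map_surjective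
    (mkHom (θ.toLinearMap ∘ₗ g) : F.functor.obj (Qp n) ⟶ F.functor.obj Qk)
  obtain ⟨b, hb⟩ := Ideal.Quotient.mk_surjective (lin h (cl n 1))
  have hh' : h = b • prk n := by
    apply hom_ext_Qp
    rw [← hb, lin_smul, LinearMap.smul_apply, prk_apply]
    change _ = Ideal.Quotient.mk _ (b * 1)
    rw [mul_one]
  refine ⟨b, ?_⟩
  apply LinearMap.ext
  intro x
  have h1 := congrArg (fun k => lin k x) hh
  simp only [lin_mkHom, LinearMap.comp_apply] at h1
  rw [hh', Functor.map_smul, lin_smul, LinearMap.smul_apply] at h1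
  -- h1 : b • lin (F.map (prk n)) x = θ (g x)
  change g x = b • θ.symm (lin (F.functor.map (prk n)) x)
  rw [← map_smul, h1]
  exact (θ.symm_apply_apply (g x)).symm

end Groth.Agent.Helper6.FinLenEq
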