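import Mathlib
import Groth.Agent.Lib.Helper6.FinLenEq.Equiv

set_option linter.unusedSectionVars false
set_option linter.unusedVariables false
set_option linter.unusedSimpArgs false
set_option autoImplicit false
set_option linter.style.haveILetI false
set_option maxHeartbeats 400000

universe u

noncomputable section

namespace Groth.Agent.Helper6.FinLenEq

open CategoryTheory IsLocalRing

variable {A : Type u} [CommRing A] [IsLocalRing A] [IsNoetherianRing A]
variable (F : FL A ≌ FL A) [F.functor.Additive] [F.functor.Linear A]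

/-- `e` generates `F(A/𝔪^(n+1))` -/
def IsGen (n : ℕ) (e : (F.functor.obj (Qp (A := A) n)).obj) : Prop :=
  ∀ x : (F.functor.obj (Qp (A := A) n)).obj, ∃ a : A, x = a • e

lemma exists_gen_lift (n : ℕ) (e : (F.functor.obj (Qp (A := A) n)).obj) (he : IsGen F n e) :
    ∃ e' : (F.functor.obj (Qp (A := A) (n + 1))).obj,
      IsGen F (n + 1) e' ∧ lin (F.functor.map (pr n)) e' = e := by
  obtain ⟨e', he'⟩ := F_surj F (pr (A := A) n) (pr_surjective n) e
  refine ⟨e', ?_, he'⟩
  obtain ⟨g, hg⟩ := FQp_cyclic F (n + 1)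
  obtain ⟨b, hb⟩ := hg e'
  have hbu : IsUnit b := by
    by_contra hnu
    have hm : b ∈ maximalIdeal A := (IsLocalRing.mem_maximalIdeal b).2 hnu
    -- e = b • y, y = a • e
    have h1 : e = b • lin (F.functor.map (pr n)) g := by
      rw [← he', hb, map_smul]
    obtain ⟨a, ha⟩ := he (lin (F.functor.map (pr n)) g)
    have h2 : (1 - b * a) • e = 0 := by
      rw [sub_smul, one_smul, mul_smul, ← ha, ← h1, sub_self]
    have hu : IsUnit (1 - b * a) := by
      by_contra hnu'
      have hm' : 1 - b * a ∈ maximalIdeal A := (IsLocalRing.mem_maximalIdeal _).2 hnu'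
      have : (1 : A) ∈ maximalIdeal A := by
        have := Ideal.add_mem _ hm' (Ideal.mul_mem_right a _ hm)
        simpa using this
      exact (IsLocalRing.maximalIdeal.isMaximal A).ne_top ((Ideal.eq_top_iff_one _).2 this)
    obtain ⟨c, hc⟩ := hu.exists_left_inv
    have he0 : e = 0 := by
      calc e = (c * (1 - b * a)) • e := by rw [hc, one_smul]
        _ = c • ((1 - b * a) • e) := by rw [mul_smul]
        _ = 0 := by rw [h2, smul_zero]
    haveI := nontrivial_F F (Qp (A := A) n)
    obtain ⟨x, hx⟩ := exists_ne (0 : (F.functor.obj (Qp (A := A) n)).obj)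
    obtain ⟨a', ha'⟩ := he x
    rw [he0, smul_zero] at ha'
    exact hx ha'
  obtain ⟨c, hc⟩ := hbu.exists_left_inv
  intro x
  obtain ⟨a, ha⟩ := hg x
  refine ⟨a * c, ?_⟩
  rw [ha, hb, ← mul_smul, mul_assoc, hc, mul_one]

/-- a compatible system of generators -/
def genSeq : (n : ℕ) → {e : (F.functor.obj (Qp (A := A) n)).obj // IsGen F n e}
  | 0 => ⟨(FQp_cyclic F 0).choose, (FQp_cyclic F 0).choose_spec⟩
  | n + 1 => ⟨(exists_gen_lift F n (genSeq n).1 (genSeq n).2).choose,
      (exists_gen_lift F n (genSeq n).1 (genSeq n).2).choose_spec.1⟩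

lemma genSeq_succ (n : ℕ) :
    lin (F.functor.map (pr n)) (genSeq F (n + 1)).1 = (genSeq F n).1 :=
  (exists_gen_lift F n (genSeq F n).1 (genSeq F n).2).choose_spec.2

/-- the comparison map at level `n` -/
def etaAt (n : ℕ) {X : FL A} (hX : Killed n X) : X.obj →ₗ[A] (F.functor.obj X).obj where
  toFun x := lin (F.functor.map (phi n hX x)) (genSeq F n).1
  map_add' x y := by
    rw [phi_add, Functor.map_add, lin_add, LinearMap.add_apply]
  map_smul' a x := by
    rw [phi_smul, Functor.map_smul, lin_smul, LinearMap.smul_apply]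
    rfl

lemma etaAt_apply (n : ℕ) {X : FL A} (hX : Killed n X) (x : X.obj) :
    etaAt F n hX x = lin (F.functor.map (phi n hX x)) (genSeq F n).1 := rfl

lemma etaAt_succ (n : ℕ) {X : FL A} (hX : Killed n X) (x : X.obj) :
    etaAt F (n + 1) (hX.mono (Nat.le_succ n)) x = etaAt F n hX x := by
  rw [etaAt_apply, etaAt_apply, ← pr_comp_phi, Functor.map_comp, lin_comp, LinearMap.comp_apply,
    genSeq_succ]

lemma etaAt_mono {n m : ℕ} (h : n ≤ m) {X : FL A} (hX : Killed n X) (x : X.obj) :
    etaAt F m (hX.mono h) x = etaAt F n hX x := by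
  induction m, h using Nat.le_induction with
  | base => rfl
  | succ m hm ih =>
    rw [← ih]
    exact etaAt_succ F m (hX.mono hm) x

lemma etaAt_natural (n : ℕ) {X Y : FL A} (hX : Killed n X) (hY : Killed n Y) (g : X ⟶ Y)
    (x : X.obj) : lin (F.functor.map g) (etaAt F n hX x) = etaAt F n hY (lin g x) := by
  rw [etaAt_apply, etaAt_apply, ← phi_comp n hX hY x g, Functor.map_comp, lin_comp,
    LinearMap.comp_apply]

lemma etaAt_injective (n : ℕ) {X : FL A} (hX : Killed n X) :
    Function.Injective (etaAt F n hX) := by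
  rw [← LinearMap.ker_eq_bot, LinearMap.ker_eq_bot']
  intro x hx
  rw [etaAt_apply] at hx
  have h1 : F.functor.map (phi n hX x) = 0 := by
    apply lin_injective
    apply LinearMap.ext
    intro y
    obtain ⟨a, rfl⟩ := (genSeq F n).2 y
    rw [map_smul, hx, smul_zero]
    rfl
  have h2 : phi n hX x = 0 := by
    apply F.functor.map_injective
    rw [h1, Functor.map_zero]
  have h3 := phi_apply n hX x 1
  rw [h2, one_smul] at h3
  exact h3.symm

/-- the linear map `A/𝔪^(n+1) → F(A/𝔪^(n+1))`, `1 ↦ e_n` -/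
def thetaP (n : ℕ) : (A ⧸ (maximalIdeal A) ^ (n + 1)) →ₗ[A] (F.functor.obj (Qp (A := A) n)).obj :=
  Submodule.liftQ _ (LinearMap.toSpanSingleton A _ (genSeq F n).1) (by
    intro a ha
    rw [LinearMap.mem_ker, LinearMap.toSpanSingleton_apply]
    exact killed_F F (killed_Qp n) a ha _)

lemma thetaP_apply (n : ℕ) (a : A) : thetaP F n (Ideal.Quotient.mk _ a) = a • (genSeq F n).1 := rfl

lemma thetaP_bijective (n : ℕ) : Function.Bijective (thetaP F n) := by
  constructor
  · rw [← LinearMap.ker_eq_bot, LinearMap.ker_eq_bot']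
    intro y hy
    obtain ⟨a, rfl⟩ := Ideal.Quotient.mk_surjective y
    rw [thetaP_apply] at hy
    -- `a` kills `F(Qp n)`, hence `Qp n`
    have h1 : a • 𝟙 (F.functor.obj (Qp (A := A) n)) = 0 := by
      apply lin_injective
      apply LinearMap.ext
      intro x
      obtain ⟨b, rfl⟩ := (genSeq F n).2 x
      change a • (b • (genSeq F n).1) = 0
      rw [smul_comm, hy, smul_zero]
    have h2 : a • 𝟙 (Qp (A := A) n) = 0 := by
      apply F.functor.map_injective
      rw [Functor.map_smul, F.functor.map_id, h1, Functor.map_zero]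
    have h3 := congrArg (fun f => lin f (cl n 1)) h2
    change a • cl (A := A) n 1 = 0 at h3
    have h4 : (a • cl (A := A) n 1 : (Qp (A := A) n).obj) = Ideal.Quotient.mk _ a := by
      change Ideal.Quotient.mk _ (a * 1) = _
      rw [mul_one]
    rw [h4] at h3
    exact h3
  · intro x
    obtain ⟨a, ha⟩ := (genSeq F n).2 x
    exact ⟨Ideal.Quotient.mk _ a, ha.symm⟩

lemma etaAt_surjective (n : ℕ) {X : FL A} (hX : Killed n X) :
    Function.Surjective (etaAt F n hX) := by
  intro y
  let θ : (A ⧸ (maximalIdeal A) ^ (n + 1)) ≃ₗ[A] (F.functor.obj (Qp (A := A) n)).obj :=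
    LinearEquiv.ofBijective (thetaP F n) (thetaP_bijective F n)
  let ψ : F.functor.obj (Qp n) ⟶ F.functor.obj X :=
    mkHom (lin (phi n (killed_F F hX) y) ∘ₗ θ.symm.toLinearMap)
  obtain ⟨φ, hφ⟩ := F.functor.map_surjective ψ
  refine ⟨lin φ (cl n 1), ?_⟩
  rw [etaAt_apply, ← eq_phi hX φ, hφ]
  change lin (phi n (killed_F F hX) y) (θ.symm (genSeq F n).1) = y
  have h1 : θ.symm (genSeq F n).1 = cl n 1 := by
    rw [LinearEquiv.symm_apply_eq]
    change _ = thetaP F n (Ideal.Quotient.mk _ 1)
    rw [thetaP_apply, one_smul]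
  rw [h1, phi_apply, one_smul]

/-- a level killing `X` -/
def lvl (X : FL A) : ℕ := (exists_killed X).choose

lemma lvl_spec (X : FL A) : Killed (lvl X) X := (exists_killed X).choose_spec

/-- the comparison isomorphism `X ≅ F X` -/
def etaIso (X : FL A) : X ≅ F.functor.obj X :=
  ObjectProperty.isoMk _ ((LinearEquiv.ofBijective (etaAt F (lvl X) (lvl_spec X))
    ⟨etaAt_injective F _ _, etaAt_surjective F _ _⟩).toModuleIso)

lemma lin_etaIso_hom (X : FL A) (x : X.obj) :
    lin (etaIso F X).hom x = etaAt F (lvl X) (lvl_spec X) x := rfl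

/-- the natural isomorphism `𝟭 ≅ F` -/
def etaNatIso : 𝟭 (FL A) ≅ F.functor :=
  NatIso.ofComponents (fun X => etaIso F X) (by
    intro X Y g
    apply lin_injective
    apply LinearMap.ext
    intro x
    change lin (etaIso F Y).hom (lin g x) = lin (F.functor.map g) (lin (etaIso F X).hom x)
    rw [lin_etaIso_hom, lin_etaIso_hom]
    rw [← etaAt_mono F (le_max_left (lvl X) (lvl Y)) (lvl_spec X),
      ← etaAt_mono F (le_max_right (lvl X) (lvl Y)) (lvl_spec Y), etaAt_natural])

theorem nonempty_iso_id : Nonempty (F.functor ≅ 𝟭 (FL A)) := ⟨(etaNatIso F).symm⟩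

end Groth.Agent.Helper6.FinLenEq
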